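import Mathlib

set_option autoImplicit false
open CategoryTheory CategoryTheory.Limits

namespace SimpTrunc

universe v u

instance finite_truncated (m : ℕ) : Finite (SimplexCategory.Truncated m) :=
  Finite.of_injective (β := Fin (m + 1)) (fun X => ⟨X.obj.len, Nat.lt_succ_of_le X.property⟩)
    (by
      intro X Y h
      exact ObjectProperty.FullSubcategory.ext (SimplexCategory.ext (Fin.mk.injEq _ _ _ _ ▸ h)))

instance finite_hom (a b : SimplexCategory) : Finite (a ⟶ b) :=
  Finite.of_injective (fun f => (f.toOrderHom : Fin (a.len + 1) → Fin (b.len + 1)))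
    (fun f g h => SimplexCategory.Hom.ext _ _ (DFunLike.coe_injective h))

instance finite_op {α : Type*} [Finite α] : Finite αᵒᵖ :=
  Finite.of_equiv α Opposite.equivToOpposite

variable {C : Type u} [Category.{v} C]

theorem hasPointwiseRight [HasFiniteLimits C] (m : ℕ) (U : (SimplexCategory.Truncated m)ᵒᵖ ⥤ C) :
    (SimplexCategory.Truncated.inclusion m).op.HasPointwiseRightKanExtension U := by
  intro X
  haveI : Finite (StructuredArrow X (SimplexCategory.Truncated.inclusion m).op) :=
    Finite.of_injective (β := Σ Y : (SimplexCategory.Truncated m)ᵒᵖ,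
        ((Opposite.unop ((SimplexCategory.Truncated.inclusion m).op.obj Y)) ⟶ X.unop))
      (fun f => ⟨f.right, f.hom.unop⟩) (by
        rintro ⟨⟨⟨⟩⟩, Y, f⟩ ⟨⟨⟨⟩⟩, Y', f'⟩ h
        simp only [Sigma.mk.injEq] at h
        obtain ⟨rfl, h⟩ := h
        obtain rfl := Quiver.Hom.unop_inj (eq_of_heq h)
        rfl)
  haveI : ∀ a b : StructuredArrow X (SimplexCategory.Truncated.inclusion m).op, Finite (a ⟶ b) :=
    fun a b => Finite.of_injective (β := (Opposite.unop b.right).obj ⟶ (Opposite.unop a.right).obj)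
      (fun f => f.right.unop.hom) (fun f g h => StructuredArrow.hom_ext _ _
        (Quiver.Hom.unop_inj (ObjectProperty.hom_ext _ h)))
  letI : FinCategory (StructuredArrow X (SimplexCategory.Truncated.inclusion m).op) :=
    { fintypeObj := Fintype.ofFinite _, fintypeHom := fun _ _ => Fintype.ofFinite _ }
  show HasLimit _
  infer_instance

theorem hasPointwiseLeft [HasFiniteColimits C] (m : ℕ) (U : (SimplexCategory.Truncated m)ᵒᵖ ⥤ C) :
    (SimplexCategory.Truncated.inclusion m).op.HasPointwiseLeftKanExtension U := by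
  intro X
  haveI : Finite (CostructuredArrow (SimplexCategory.Truncated.inclusion m).op X) :=
    Finite.of_injective (β := Σ Y : (SimplexCategory.Truncated m)ᵒᵖ,
        (X.unop ⟶ (Opposite.unop ((SimplexCategory.Truncated.inclusion m).op.obj Y))))
      (fun f => ⟨f.left, f.hom.unop⟩) (by
        rintro ⟨Y, ⟨⟨⟩⟩, f⟩ ⟨Y', ⟨⟨⟩⟩, f'⟩ h
        simp only [Sigma.mk.injEq] at h
        obtain ⟨rfl, h⟩ := h
        obtain rfl := Quiver.Hom.unop_inj (eq_of_heq h)
        rfl)
  haveI : ∀ a b : CostructuredArrow (SimplexCategory.Truncated.inclusion m).op X, Finite (a ⟶ b) :=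
    fun a b => Finite.of_injective (β := (Opposite.unop b.left).obj ⟶ (Opposite.unop a.left).obj)
      (fun f => f.left.unop.hom) (fun f g h => CostructuredArrow.hom_ext _ _
        (Quiver.Hom.unop_inj (ObjectProperty.hom_ext _ h)))
  letI : FinCategory (CostructuredArrow (SimplexCategory.Truncated.inclusion m).op X) :=
    { fintypeObj := Fintype.ofFinite _, fintypeHom := fun _ _ => Fintype.ofFinite _ }
  show HasColimit _
  infer_instance

theorem isCoskeletal_of_le [HasFiniteLimits C] (U : SimplicialObject C) {n m : ℕ} (h : n ≤ m)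
    [U.IsCoskeletal n] : U.IsCoskeletal m := by
  haveI hn : ∀ (F : (SimplexCategory.Truncated n)ᵒᵖ ⥤ C),
      (SimplexCategory.Truncated.inclusion n).op.HasPointwiseRightKanExtension F := hasPointwiseRight n
  let Ln := (SimplexCategory.Truncated.inclusion n).op
  let Lm := (SimplexCategory.Truncated.inclusion m).op
  let ι : (SimplexCategory.Truncated n)ᵒᵖ ⥤ (SimplexCategory.Truncated m)ᵒᵖ :=
    (SimplexCategory.Truncated.incl n m h).op
  have hp := Functor.isPointwiseRightKanExtensionOfIsRightKanExtension U (𝟙 (Ln ⋙ U))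
  refine ⟨⟨⟨Limits.IsTerminal.ofUniqueHom (fun S => ?_) (fun S f => ?_)⟩⟩⟩
  · refine CostructuredArrow.homMk
      (Functor.liftOfIsRightKanExtension U (𝟙 (Ln ⋙ U)) S.left (Functor.whiskerLeft ι S.hom)) ?_
    apply NatTrans.ext
    funext Y
    refine (hp (Lm.obj Y)).hom_ext fun g => ?_
    show ((Functor.liftOfIsRightKanExtension U (𝟙 (Ln ⋙ U)) S.left (Functor.whiskerLeft ι S.hom)).app (Lm.obj Y) ≫ 𝟙 (U.obj (Lm.obj Y))) ≫ U.map g.hom ≫ 𝟙 (U.obj (Ln.obj g.right)) =
      S.hom.app Y ≫ U.map g.hom ≫ 𝟙 (U.obj (Ln.obj g.right))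
    simp only [Category.comp_id]
    have h1 := (Functor.liftOfIsRightKanExtension U (𝟙 (Ln ⋙ U)) S.left
      (Functor.whiskerLeft ι S.hom)).naturality g.hom
    have h2 : (Functor.liftOfIsRightKanExtension U (𝟙 (Ln ⋙ U)) S.left
      (Functor.whiskerLeft ι S.hom)).app (Ln.obj g.right) ≫ 𝟙 (U.obj (Ln.obj g.right)) = S.hom.app (ι.obj g.right) :=
      Functor.liftOfIsRightKanExtension_fac_app U (𝟙 (Ln ⋙ U)) S.left (Functor.whiskerLeft ι S.hom) g.right
    rw [Category.comp_id] at h2
    let q : Y ⟶ ι.obj g.right := (ObjectProperty.homMk g.hom.unop).op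
    have h3 : S.left.map g.hom ≫ S.hom.app (ι.obj g.right) = S.hom.app Y ≫ U.map g.hom :=
      S.hom.naturality q
    exact h1.symm.trans ((congrArg (S.left.map g.hom ≫ ·) h2).trans h3)
  · apply CostructuredArrow.hom_ext
    refine Functor.hom_ext_of_isRightKanExtension U (𝟙 (Ln ⋙ U)) _ _ ?_
    refine Eq.trans ?_ (Functor.liftOfIsRightKanExtension_fac U (𝟙 (Ln ⋙ U)) S.left (Functor.whiskerLeft ι S.hom)).symm
    apply NatTrans.ext
    funext Y
    have h4 : f.left.app (Lm.obj (ι.obj Y)) ≫ 𝟙 (U.obj (Lm.obj (ι.obj Y))) = S.hom.app (ι.obj Y) :=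
      congrArg (fun t => t.app (ι.obj Y)) (CostructuredArrow.w f)
    exact h4

end SimpTrunc
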